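import Mathlib
import Groth.Prelude
import Groth.Agent.Lib.Helper8.SHExt3
import Groth.Agent.Lib.Helper8.HensCpl2
import Groth.Agent.Lib.Helper8.Nag5
import Groth.Agent.Lib.Helper8.Nag4
import Groth.Agent.Lib.Helper7.SemiNorm.Basic
import Groth.Agent.Lib.Helper7.HensQFLoc
import Groth.Agent.Lib.Helper7.Hensel.FiniteLocal
import Groth.Agent.Lib.Lead.EssEt3

/-!
# Minimal primes of the strict henselization generated from an essentially étale local algebra

`A` an excellent henselian local domain with local normalization `A'` (residue field `k'`), `kˢ` the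
separable closure of `k` in `k'`, `S` a strict henselization of `A`, `E` an essentially étale local
`A`-algebra mapping to `S`.  Every minimal prime of `S` is extended from `E` iff
`#Hom_k(kˢ, κ(E)) = [kˢ : k]`.

Route: `E` is finite étale over `A` and henselian, `S` is a strict henselization of `E`; by
helper8's `SHExt.main` for `(E, E, S)` the left side says that the residue fields of the
normalization `N` of `E` are purely inseparable over `κ(E)`; `N ≅ E ⊗_A A'` (smooth base change of
integral closures), which reduces everything to field theory of `κ(E)`, `k'` over `k`.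
-/

set_option linter.style.haveILetI false
set_option linter.unusedVariables false
set_option linter.unusedSectionVars false
set_option linter.overlappingInstances false
set_option autoImplicit false
set_option backward.isDefEq.respectTransparency.types false
set_option backward.isDefEq.respectTransparency false
set_option synthInstance.maxHeartbeats 400000
set_option maxHeartbeats 1600000

universe u

open IsLocalRing TensorProduct
open scoped IntermediateField

namespace Groth.Agent.Helper7.EssEtSplit

section PPow

theorem pinsep_add {F : Type*} [CommRing F] (q : ℕ) [ExpChar F q] (R₀ : Subring F) {x y : F}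
    (hx : ∃ n : ℕ, x ^ q ^ n ∈ R₀) (hy : ∃ n : ℕ, y ^ q ^ n ∈ R₀) :
    ∃ n : ℕ, (x + y) ^ q ^ n ∈ R₀ := by
  obtain ⟨n, hn⟩ := hx
  obtain ⟨m, hm⟩ := hy
  refine ⟨n + m, ?_⟩
  rw [add_pow_expChar_pow x y q (n + m)]
  refine R₀.add_mem ?_ ?_
  · rw [pow_add, pow_mul]
    exact R₀.pow_mem hn _
  · rw [add_comm n m, pow_add, pow_mul]
    exact R₀.pow_mem hm _

theorem pinsep_mul {F : Type*} [CommRing F] (q : ℕ) (R₀ : Subring F) {x y : F}
    (hx : ∃ n : ℕ, x ^ q ^ n ∈ R₀) (hy : ∃ n : ℕ, y ^ q ^ n ∈ R₀) :
    ∃ n : ℕ, (x * y) ^ q ^ n ∈ R₀ := by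
  obtain ⟨n, hn⟩ := hx
  obtain ⟨m, hm⟩ := hy
  refine ⟨n + m, ?_⟩
  rw [mul_pow]
  refine R₀.mul_mem ?_ ?_
  · rw [pow_add, pow_mul]
    exact R₀.pow_mem hn _
  · rw [add_comm n m, pow_add, pow_mul]
    exact R₀.pow_mem hm _

end PPow

section FieldTheory

theorem mem_range_of_isSeparable_of_pow_mem {l Ω : Type*} [Field l] [Field Ω] [Algebra l Ω]
    (q : ℕ) [ExpChar l q] {a : Ω} (ha : IsSeparable l a) {n : ℕ}
    (h : a ^ q ^ n ∈ (algebraMap l Ω).range) : a ∈ (algebraMap l Ω).range := by
  have h1 := IntermediateField.adjoin_simple_eq_adjoin_pow_expChar_pow_of_isSeparable l Ω ha q n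
  have h2 : l⟮a ^ q ^ n⟯ = ⊥ := by
    rw [IntermediateField.adjoin_simple_eq_bot_iff, IntermediateField.mem_bot]
    obtain ⟨y, hy⟩ := RingHom.mem_range.mp h
    exact ⟨y, hy⟩
  have h3 : a ∈ l⟮a⟯ := IntermediateField.mem_adjoin_simple_self l a
  rw [h1, h2, IntermediateField.mem_bot] at h3
  obtain ⟨y, hy⟩ := h3
  exact RingHom.mem_range.mpr ⟨y, hy⟩

variable (k k' l : Type u) [Field k] [Field k'] [Field l] [Algebra k k'] [Algebra k l]

theorem card_algHom_eq_finrank_iff (ks : Type u) [Field ks] [Algebra k ks]
    [FiniteDimensional k ks] [Algebra.IsSeparable k ks] (pb : PowerBasis k ks) :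
    Nat.card (ks →ₐ[k] l) = Module.finrank k ks ↔
      ((minpoly k pb.gen).map (algebraMap k l)).Splits := by
  classical
  have hsep : (minpoly k pb.gen).Separable := Algebra.IsSeparable.isSeparable k pb.gen
  have hsep' : ((minpoly k pb.gen).map (algebraMap k l)).Separable := hsep.map
  have hnd : ((minpoly k pb.gen).aroots l).Nodup := Polynomial.nodup_roots hsep'
  have h1 : Nat.card (ks →ₐ[k] l) = Multiset.card ((minpoly k pb.gen).aroots l) := by
    rw [Nat.card_congr pb.liftEquiv',
      Nat.card_congr (Equiv.subtypeEquivRight (fun y =>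
        (Multiset.mem_toFinset (s := (minpoly k pb.gen).aroots l) (a := y)).symm)),
      Nat.card_eq_fintype_card, Fintype.card_coe, Multiset.toFinset_card_of_nodup hnd]
  have h2 : Module.finrank k ks = ((minpoly k pb.gen).map (algebraMap k l)).natDegree := by
    rw [Polynomial.natDegree_map, pb.natDegree_minpoly, pb.finrank]
  rw [h1, h2, Polynomial.splits_iff_card_roots]

variable [FiniteDimensional k k']

theorem hpt_of_splits (pb : PowerBasis k (separableClosure k k'))
    (hs : ((minpoly k pb.gen).map (algebraMap k l)).Splits)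
    (Ω : Type u) [Field Ω] (jl : l →+* Ω) (jk' : k' →+* Ω)
    (hc : jl.comp (algebraMap k l) = jk'.comp (algebraMap k k')) (y : k') :
    ∃ n : ℕ, (jk' y) ^ (ringExpChar Ω) ^ n ∈ jl.range := by
  classical
  have hint : IsIntegral k pb.gen := Algebra.IsIntegral.isIntegral _
  have hne : (minpoly k pb.gen).map (algebraMap k l) ≠ 0 :=
    Polynomial.map_ne_zero (minpoly.ne_zero hint)
  have hθ : jk' (algebraMap (separableClosure k k') k' pb.gen) ∈ jl.range := by
    apply Polynomial.Splits.mem_range_of_isRoot hs hne (i := jl)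
    rw [Polynomial.IsRoot.def, Polynomial.map_map, hc, Polynomial.eval_map,
      ← Polynomial.hom_eval₂, ← Polynomial.aeval_def, Polynomial.aeval_algebraMap_apply,
      minpoly.aeval, map_zero, map_zero]
  have hks : ∀ c : separableClosure k k',
      jk' (algebraMap (separableClosure k k') k' c) ∈ jl.range := by
    intro c
    have hc' : c ∈ Algebra.adjoin k {pb.gen} := by
      rw [pb.adjoin_gen_eq_top]; exact Algebra.mem_top
    induction hc' using Algebra.adjoin_induction with
    | mem x hx =>
      rw [Set.mem_singleton_iff.mp hx]; exact hθ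
    | algebraMap r =>
      refine RingHom.mem_range.mpr ⟨algebraMap k l r, ?_⟩
      have h3 := RingHom.congr_fun hc r
      simp only [RingHom.comp_apply] at h3
      rw [h3, ← IsScalarTower.algebraMap_apply k (separableClosure k k') k']
    | add x y _ _ hx hy => rw [map_add, map_add]; exact add_mem hx hy
    | mul x y _ _ hx hy => rw [map_mul, map_mul]; exact mul_mem hx hy
  let β : separableClosure k k' →+* Ω := jk'.comp (algebraMap (separableClosure k k') k')
  haveI : ExpChar (separableClosure k k') (ringExpChar Ω) :=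
    RingHom.expChar β β.injective _
  obtain ⟨n, hn⟩ := IsPurelyInseparable.pow_mem (separableClosure k k') (ringExpChar Ω) y
  obtain ⟨c, hc2⟩ := RingHom.mem_range.mp hn
  refine ⟨n, ?_⟩
  rw [← map_pow, ← hc2]
  exact hks c

theorem splits_of_hpt (pb : PowerBasis k (separableClosure k k'))
    (H : ∀ (Ω : Type u) [Field Ω] (jl : l →+* Ω) (jk' : k' →+* Ω),
      jl.comp (algebraMap k l) = jk'.comp (algebraMap k k') →
      ∀ y : k', ∃ n : ℕ, (jk' y) ^ (ringExpChar Ω) ^ n ∈ jl.range) :
    ((minpoly k pb.gen).map (algebraMap k l)).Splits := by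
  classical
  have hsep : (minpoly k pb.gen).Separable := Algebra.IsSeparable.isSeparable k pb.gen
  have hint : IsIntegral k pb.gen := Algebra.IsIntegral.isIntegral _
  have hne : ((minpoly k pb.gen).map (algebraMap k l)).map
      (algebraMap l (AlgebraicClosure l)) ≠ 0 :=
    Polynomial.map_ne_zero (Polynomial.map_ne_zero (minpoly.ne_zero hint))
  refine Polynomial.Splits.of_splits_map (algebraMap l (AlgebraicClosure l))
    (IsAlgClosed.splits _) ?_
  intro r hr
  have hmp : minpoly k ((pb.gen : separableClosure k k') : k') = minpoly k pb.gen :=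
    (IntermediateField.minpoly_eq _).symm
  have hroot : Polynomial.aeval r (minpoly k ((pb.gen : separableClosure k k') : k')) = 0 := by
    have h1 := (Polynomial.mem_roots hne).mp hr
    rw [Polynomial.IsRoot.def, Polynomial.map_map, ← IsScalarTower.algebraMap_eq,
      Polynomial.eval_map, ← Polynomial.aeval_def] at h1
    rw [hmp]
    exact h1
  obtain ⟨φ, hφ⟩ := IntermediateField.exists_algHom_of_splits_of_aeval (F := k) (E := k')
    (K := AlgebraicClosure l)
    (fun s => ⟨Algebra.IsIntegral.isIntegral s, IsAlgClosed.splits _⟩) hroot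
  have hc : (algebraMap l (AlgebraicClosure l)).comp (algebraMap k l) =
      (φ : k' →+* AlgebraicClosure l).comp (algebraMap k k') := by
    ext a
    show algebraMap l (AlgebraicClosure l) (algebraMap k l a) = φ (algebraMap k k' a)
    rw [φ.commutes, ← IsScalarTower.algebraMap_apply]
  obtain ⟨n, hn⟩ := H (AlgebraicClosure l) (algebraMap l (AlgebraicClosure l))
    (φ : k' →+* AlgebraicClosure l) hc ((pb.gen : separableClosure k k') : k')
  have hn' : r ^ (ringExpChar (AlgebraicClosure l)) ^ n ∈
      (algebraMap l (AlgebraicClosure l)).range := by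
    rw [← hφ]; exact hn
  haveI : ExpChar l (ringExpChar (AlgebraicClosure l)) :=
    RingHom.expChar (algebraMap l (AlgebraicClosure l))
      (algebraMap l (AlgebraicClosure l)).injective _
  have hrsep : IsSeparable l r := by
    have haev : Polynomial.aeval r ((minpoly k pb.gen).map (algebraMap k l)) = 0 := by
      have h1 := (Polynomial.mem_roots hne).mp hr
      rw [Polynomial.IsRoot.def, Polynomial.eval_map, ← Polynomial.aeval_def] at h1
      exact h1
    exact (hsep.map (f := algebraMap k l)).of_dvd (minpoly.dvd l r haev)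
  exact mem_range_of_isSeparable_of_pow_mem _ hrsep hn'

end FieldTheory

section Unique

/-- Two ring maps from a formally unramified, essentially finite type algebra to a local ring
which agree on the base and modulo the maximal ideal are equal. -/
theorem eq_of_residue_eq {A E T : Type u} [CommRing A] [CommRing E] [Algebra A E]
    [Algebra.FormallyUnramified A E] [Algebra.EssFiniteType A E] [CommRing T] [IsLocalRing T]
    (u v : E →+* T) (h : u.comp (algebraMap A E) = v.comp (algebraMap A E))
    (hres : ∀ x, residue T (u x) = residue T (v x)) : u = v := by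
  letI : Algebra A T := (u.comp (algebraMap A E)).toAlgebra
  let u' : E →ₐ[A] T := { u with commutes' := fun a => rfl }
  let v' : E →ₐ[A] T := { v with commutes' := fun a => (RingHom.congr_fun h a).symm }
  let φ : E ⊗[A] E →ₐ[A] T := Algebra.TensorProduct.productMap u' v'
  have hφ : ∀ x y : E, φ (x ⊗ₜ[A] y) = u x * v y := fun x y =>
    Algebra.TensorProduct.productMap_apply_tmul u' v' x y
  have hc : ∀ z : E ⊗[A] E, residue T (φ z) = residue T (u (Algebra.TensorProduct.lmul' A z)) := by
    intro z
    induction z using TensorProduct.induction_on with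
    | zero => simp
    | tmul x y =>
      rw [hφ, Algebra.TensorProduct.lmul'_apply_tmul, map_mul, map_mul, map_mul, hres y]
    | add x y hx hy => rw [map_add, map_add, hx, hy, map_add, map_add, map_add]
  have hunit : IsUnit (φ (Algebra.FormallyUnramified.elem A E)) := by
    have h1 : residue T (φ (Algebra.FormallyUnramified.elem A E)) = 1 := by
      rw [hc, Algebra.FormallyUnramified.lmul_elem, map_one, map_one]
    by_contra hnu
    have h2 : φ (Algebra.FormallyUnramified.elem A E) ∈ maximalIdeal T :=
      (IsLocalRing.mem_maximalIdeal _).mpr hnu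
    rw [← IsLocalRing.residue_eq_zero_iff] at h2
    rw [h2] at h1
    exact zero_ne_one h1
  ext s
  have h3 : ((1 : E) ⊗ₜ[A] s) * Algebra.FormallyUnramified.elem A E =
      (s ⊗ₜ[A] (1 : E)) * Algebra.FormallyUnramified.elem A E :=
    Algebra.FormallyUnramified.one_tmul_mul_elem s
  have h4 := congrArg φ h3
  rw [map_mul, map_mul, hφ, hφ, map_one, map_one, one_mul, mul_one] at h4
  exact (hunit.mul_left_inj.mp h4).symm

end Unique

section Tower

theorem isLocalHom_top (A E S : Type u) [CommRing A] [IsLocalRing A]
    [CommRing E] [IsLocalRing E] [Algebra A E] [IsLocalHom (algebraMap A E)]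
    [Algebra.FormallyUnramified A E] [Algebra.EssFiniteType A E]
    [CommRing S] [IsLocalRing S] [Algebra A S] [IsLocalHom (algebraMap A S)]
    [Algebra E S] [IsScalarTower A E S] : IsLocalHom (algebraMap E S) := by
  have hloc : IsLocalHom (algebraMap A S) := inferInstance
  have hmax : (maximalIdeal A).map (algebraMap A E) = maximalIdeal E :=
    Algebra.FormallyUnramified.map_maximalIdeal
  have h : (maximalIdeal E).map (algebraMap E S) ≤ maximalIdeal S := by
    rw [← hmax, Ideal.map_map, ← IsScalarTower.algebraMap_eq]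
    exact ((IsLocalRing.local_hom_TFAE (algebraMap A S)).out 0 2).mp hloc
  exact ((IsLocalRing.local_hom_TFAE (algebraMap E S)).out 0 2).mpr h

theorem isStrictHenselization_tower (A E S : Type u) [CommRing A] [IsLocalRing A]
    [CommRing E] [IsLocalRing E] [Algebra A E] [IsLocalHom (algebraMap A E)]
    [Algebra.FormallyUnramified A E] [Algebra.EssFiniteType A E]
    [CommRing S] [IsLocalRing S] [Algebra A S] [IsLocalHom (algebraMap A S)]
    [Algebra E S] [IsScalarTower A E S] [IsLocalHom (algebraMap E S)]
    [Hensel.IsStrictHenselization A S] : Hensel.IsStrictHenselization E S where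
  henselian := Hensel.IsStrictHenselization.henselian A
  isSepClosure := by
    have h : IsSepClosure (ResidueField A) (ResidueField S) :=
      Hensel.IsStrictHenselization.isSepClosure
    haveI := h.separable
    exact ⟨h.sep_closed, Algebra.isSeparable_tower_top_of_isSeparable (ResidueField A) _ _⟩
  universal := by
    intro T _ _ f _ τ hτ
    have hτ' : τ.comp (IsLocalRing.ResidueField.map (algebraMap A S)) =
        IsLocalRing.ResidueField.map (f.comp (algebraMap A E)) := by
      ext x
      obtain ⟨a, rfl⟩ := IsLocalRing.residue_surjective x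
      have h1 := RingHom.congr_fun hτ (residue E (algebraMap A E a))
      simp only [RingHom.comp_apply, IsLocalRing.ResidueField.map_residue] at h1 ⊢
      rw [IsScalarTower.algebraMap_apply A E S]
      exact h1
    obtain ⟨g, ⟨hg1, hg2⟩, hguniq⟩ :=
      Hensel.IsStrictHenselization.universal (R := A) (S := S) T (f.comp (algebraMap A E)) τ hτ'
    refine ⟨g, ⟨?_, hg2⟩, ?_⟩
    · apply eq_of_residue_eq (A := A)
      · rw [RingHom.comp_assoc, ← IsScalarTower.algebraMap_eq]
        exact hg1
      · intro x
        rw [RingHom.comp_apply, hg2]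
        have h1 := RingHom.congr_fun hτ (residue E x)
        simp only [RingHom.comp_apply, IsLocalRing.ResidueField.map_residue] at h1
        exact h1
    · rintro g' ⟨hg'1, hg'2⟩
      apply hguniq
      refine ⟨?_, hg'2⟩
      rw [IsScalarTower.algebraMap_eq A E S, ← RingHom.comp_assoc, hg'1]

theorem finite_of_isEssentiallyEtale (A E : Type u) [CommRing A] [HenselianLocalRing A]
    [CommRing E] [Algebra A E] (hE : EGA4loc.IsEssentiallyEtale A E) :
    Module.Finite A E ∧ Algebra.FormallyEtale A E := by
  obtain ⟨C, instC, instAC, q, hq, hEt, hqm, ⟨e⟩⟩ := hE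
  haveI := hq
  haveI := hEt
  have hlies : q.LiesOver (maximalIdeal A) := ⟨hqm.symm⟩
  haveI : Algebra.FormallyUnramified C (Localization.AtPrime q) :=
    Algebra.FormallyUnramified.of_isLocalization q.primeCompl
  haveI : Algebra.FormallyUnramified A (Localization.AtPrime q) :=
    Algebra.FormallyUnramified.comp A C _
  haveI : Algebra.EssFiniteType A (Localization.AtPrime q) := inferInstance
  have hqf : Algebra.QuasiFiniteAt A q := inferInstance
  haveI : Module.Finite A (Localization.AtPrime q) :=
    Groth.Agent.Helper7.HensQFLoc.finite_localization_of_henselian A C q hlies hqf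
  haveI : Algebra.FormallyEtale C (Localization.AtPrime q) :=
    Algebra.FormallyEtale.of_isLocalization q.primeCompl
  haveI : Algebra.FormallyEtale A (Localization.AtPrime q) :=
    Algebra.FormallyEtale.comp A C _
  exact ⟨Module.Finite.equiv e.symm.toLinearEquiv, Algebra.FormallyEtale.of_equiv e.symm⟩

end Tower

section Ring

variable (A E : Type u) [CommRing A] [IsDomain A] [IsLocalRing A] [IsNoetherianRing A]
  [CommRing E] [IsLocalRing E] [Algebra A E] [IsLocalHom (algebraMap A E)]
  [Module.Finite A E] [Algebra.Etale A E]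

theorem nonempty_equiv :
    Nonempty (E ⊗[A] integralClosure A (FractionRing A) ≃ₐ[E]
      integralClosure E (FractionRing E)) := by
  have hmin : (minimalPrimes A).Finite := minimalPrimes.finite_of_isNoetherianRing A
  haveI : Algebra.FormallyUnramified A E := inferInstance
  haveI : Algebra.EssFiniteType A E := inferInstance
  haveI : Module.Flat A E := inferInstance
  haveI h1 : IsLocalization (Algebra.algebraMapSubmonoid E (nonZeroDivisors A))
      (FractionRing E) := Groth.Agent.Lead.EssEt.isLocalization_fractionRing hmin E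
  haveI h2 : IsLocalization (Algebra.algebraMapSubmonoid E (nonZeroDivisors A))
      (E ⊗[A] FractionRing A) := inferInstance
  let e : E ⊗[A] FractionRing A ≃ₐ[E] FractionRing E :=
    IsLocalization.algEquiv (Algebra.algebraMapSubmonoid E (nonZeroDivisors A)) _ _
  let ψ : E ⊗[A] integralClosure A (FractionRing A) →ₐ[E]
      integralClosure E (FractionRing E) :=
    e.mapIntegralClosure.toAlgHom.comp (TensorProduct.toIntegralClosure A E (FractionRing A))
  have hψ : Function.Bijective ψ := e.mapIntegralClosure.bijective.comp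
    TensorProduct.toIntegralClosure_bijective_of_smooth
  exact ⟨AlgEquiv.ofBijective ψ hψ⟩

variable [IsLocalRing (integralClosure A (FractionRing A))]
  [IsLocalHom (algebraMap A (integralClosure A (FractionRing A)))]

local notation "A'" => integralClosure A (FractionRing A)
local notation "N" => integralClosure E (FractionRing E)

theorem hpt_of_hN (ψ : E ⊗[A] A' ≃ₐ[E] N)
    (H : ∀ (M : Ideal N) [M.IsMaximal], ∀ x : N ⧸ M, ∃ n : ℕ,
        x ^ (ringExpChar (N ⧸ M)) ^ n ∈ ((Ideal.Quotient.mk M).comp (algebraMap E N)).range)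
    (Ω : Type u) [Field Ω] (jl : ResidueField E →+* Ω) (jk' : ResidueField A' →+* Ω)
    (hc : jl.comp (algebraMap (ResidueField A) (ResidueField E)) =
      jk'.comp (algebraMap (ResidueField A) (ResidueField A')))
    (y : ResidueField A') : ∃ n : ℕ, (jk' y) ^ (ringExpChar Ω) ^ n ∈ jl.range := by
  classical
  let fE : E →+* Ω := jl.comp (residue E)
  let fA' : A' →+* Ω := jk'.comp (residue A')
  have hcompat : ∀ a : A, fA' (algebraMap A A' a) = fE (algebraMap A E a) := by
    intro a
    have h1 := RingHom.congr_fun hc (residue A a)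
    simp only [RingHom.comp_apply, IsLocalRing.ResidueField.algebraMap_residue] at h1
    exact h1.symm
  letI : Algebra A Ω := (fE.comp (algebraMap A E)).toAlgebra
  let fE' : E →ₐ[A] Ω := { fE with commutes' := fun a => rfl }
  let fA'' : A' →ₐ[A] Ω := { fA' with commutes' := fun a => hcompat a }
  let ρ₀ : E ⊗[A] A' →ₐ[A] Ω := Algebra.TensorProduct.productMap fE' fA''
  have hρ₀ : ∀ (x : E) (a' : A'), ρ₀ (x ⊗ₜ[A] a') = fE x * fA' a' := fun x a' =>
    Algebra.TensorProduct.productMap_apply_tmul fE' fA'' x a'
  let ρ : N →+* Ω := (ρ₀ : E ⊗[A] A' →+* Ω).comp (ψ.symm : N →+* E ⊗[A] A')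
  have hρ : ∀ z : E ⊗[A] A', ρ (ψ z) = ρ₀ z := by
    intro z
    show ρ₀ (ψ.symm (ψ z)) = ρ₀ z
    rw [ψ.symm_apply_apply]
  have hE1 : ∀ x : E, ψ (x ⊗ₜ[A] (1 : A')) = algebraMap E N x := fun x => ψ.commutes x
  have hρE : ∀ x : E, ρ (algebraMap E N x) = fE x := by
    intro x
    rw [← hE1, hρ, hρ₀, map_one, mul_one]
  have hρA' : ∀ a' : A', ρ (ψ ((1 : E) ⊗ₜ[A] a')) = fA' a' := by
    intro a'
    rw [hρ, hρ₀, map_one, one_mul]
  haveI hMprime : (RingHom.ker ρ).IsPrime := RingHom.ker_isPrime ρ
  have hcomap : (RingHom.ker ρ).comap (algebraMap E N) = maximalIdeal E := by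
    ext x
    rw [Ideal.mem_comap, RingHom.mem_ker, hρE]
    show jl (residue E x) = 0 ↔ _
    rw [map_eq_zero_iff jl jl.injective, IsLocalRing.residue_eq_zero_iff]
  haveI hMmax : (RingHom.ker ρ).IsMaximal := by
    apply Ideal.isMaximal_of_isIntegral_of_isMaximal_comap (R := E)
    rw [hcomap]
    infer_instance
  have hinj : Function.Injective (RingHom.kerLift ρ) := RingHom.kerLift_injective ρ
  haveI : ExpChar (N ⧸ RingHom.ker ρ) (ringExpChar Ω) :=
    RingHom.expChar (RingHom.kerLift ρ) hinj _
  have hq : ringExpChar (N ⧸ RingHom.ker ρ) = ringExpChar Ω := ringExpChar.eq _ _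
  obtain ⟨a', rfl⟩ := IsLocalRing.residue_surjective y
  obtain ⟨n, hn⟩ := H (RingHom.ker ρ) (Ideal.Quotient.mk _ (ψ ((1 : E) ⊗ₜ[A] a')))
  rw [hq] at hn
  obtain ⟨e, he⟩ := RingHom.mem_range.mp hn
  refine ⟨n, RingHom.mem_range.mpr ⟨residue E e, ?_⟩⟩
  have h2 := congrArg (RingHom.kerLift ρ) he
  rw [map_pow, RingHom.comp_apply, RingHom.kerLift_mk, RingHom.kerLift_mk, hρE, hρA'] at h2
  exact h2

theorem hN_of_hpt (ψ : E ⊗[A] A' ≃ₐ[E] N)
    (Hpt : ∀ (Ω : Type u) [Field Ω] (jl : ResidueField E →+* Ω) (jk' : ResidueField A' →+* Ω),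
      jl.comp (algebraMap (ResidueField A) (ResidueField E)) =
        jk'.comp (algebraMap (ResidueField A) (ResidueField A')) →
      ∀ y : ResidueField A', ∃ n : ℕ, (jk' y) ^ (ringExpChar Ω) ^ n ∈ jl.range)
    (M : Ideal N) [M.IsMaximal] (x : N ⧸ M) : ∃ n : ℕ,
      x ^ (ringExpChar (N ⧸ M)) ^ n ∈ ((Ideal.Quotient.mk M).comp (algebraMap E N)).range := by
  classical
  letI : Field (N ⧸ M) := Ideal.Quotient.field M
  let π : N →+* N ⧸ M := Ideal.Quotient.mk M
  let πE : E →+* N ⧸ M := π.comp (algebraMap E N)
  let ι : A' →+* N := (ψ : E ⊗[A] A' →+* N).comp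
    (Algebra.TensorProduct.includeRight : A' →ₐ[A] E ⊗[A] A').toRingHom
  let γ : A' →+* N ⧸ M := π.comp ι
  have hE1 : ∀ x : E, ψ (x ⊗ₜ[A] (1 : A')) = algebraMap E N x := fun x => ψ.commutes x
  have hι : ∀ a' : A', ι a' = ψ ((1 : E) ⊗ₜ[A] a') := fun a' => rfl
  have hιA : ∀ a : A, ι (algebraMap A A' a) = algebraMap E N (algebraMap A E a) := by
    intro a
    rw [hι, ← hE1]
    congr 1
    rw [Algebra.algebraMap_eq_smul_one, TensorProduct.tmul_smul, TensorProduct.smul_tmul',
      ← Algebra.algebraMap_eq_smul_one]
  have hkerE : ∀ x : E, x ∈ maximalIdeal E → πE x = 0 := by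
    have hmax : (M.comap (algebraMap E N)).IsMaximal :=
      Ideal.isMaximal_comap_of_isIntegral_of_isMaximal (R := E) M
    have heq : M.comap (algebraMap E N) = maximalIdeal E := IsLocalRing.eq_maximalIdeal hmax
    intro x hx
    rw [← heq, Ideal.mem_comap] at hx
    exact Ideal.Quotient.eq_zero_iff_mem.mpr hx
  have hkerA' : ∀ a' : A', a' ∈ maximalIdeal A' → γ a' = 0 := by
    haveI hp : (RingHom.ker γ).IsPrime := RingHom.ker_isPrime γ
    have hcm : (RingHom.ker γ).comap (algebraMap A A') = maximalIdeal A := by
      ext a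
      rw [Ideal.mem_comap, RingHom.mem_ker]
      show π (ι (algebraMap A A' a)) = 0 ↔ _
      rw [hιA]
      constructor
      · intro h
        by_contra hna
        have hu : IsUnit a := by
          by_contra hnu
          exact hna ((IsLocalRing.mem_maximalIdeal a).mpr hnu)
        have hu2 : IsUnit (π (algebraMap E N (algebraMap A E a))) :=
          ((hu.map (algebraMap A E)).map (algebraMap E N)).map π
        rw [h] at hu2
        exact not_isUnit_zero hu2
      · intro h
        have hloc : IsLocalHom (algebraMap A E) := inferInstance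
        have hle : (maximalIdeal A).map (algebraMap A E) ≤ maximalIdeal E :=
          ((IsLocalRing.local_hom_TFAE (algebraMap A E)).out 0 2).mp hloc
        exact hkerE _ (hle (Ideal.mem_map_of_mem _ h))
    have hmax : (RingHom.ker γ).IsMaximal := by
      apply Ideal.isMaximal_of_isIntegral_of_isMaximal_comap (R := A)
      rw [hcm]
      infer_instance
    have heq : RingHom.ker γ = maximalIdeal A' := IsLocalRing.eq_maximalIdeal hmax
    intro a' ha'
    rw [← heq] at ha'
    exact ha'
  haveI hlocE : IsLocalHom πE :=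
    ⟨fun a ha => by
      by_contra h
      exact ha.ne_zero (hkerE a ((IsLocalRing.mem_maximalIdeal a).mpr h))⟩
  haveI hlocA' : IsLocalHom γ :=
    ⟨fun a ha => by
      by_contra h
      exact ha.ne_zero (hkerA' a ((IsLocalRing.mem_maximalIdeal a).mpr h))⟩
  let jl : ResidueField E →+* N ⧸ M := IsLocalRing.ResidueField.lift πE
  let jk' : ResidueField A' →+* N ⧸ M := IsLocalRing.ResidueField.lift γ
  have hjl : ∀ x, jl (residue E x) = πE x := fun x => rfl
  have hjk' : ∀ a', jk' (residue A' a') = γ a' := fun a' => rfl
  have hc : jl.comp (algebraMap (ResidueField A) (ResidueField E)) =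
      jk'.comp (algebraMap (ResidueField A) (ResidueField A')) := by
    ext z
    obtain ⟨a, rfl⟩ := IsLocalRing.residue_surjective z
    simp only [RingHom.comp_apply, IsLocalRing.ResidueField.algebraMap_residue]
    rw [hjl, hjk']
    show π (algebraMap E N (algebraMap A E a)) = π (ι (algebraMap A A' a))
    rw [hιA]
  have hS : ∀ a' : A', ∃ n : ℕ, (γ a') ^ (ringExpChar (N ⧸ M)) ^ n ∈ πE.range := by
    intro a'
    obtain ⟨n, hn⟩ := Hpt (N ⧸ M) jl jk' hc (residue A' a')
    obtain ⟨z, hz⟩ := RingHom.mem_range.mp hn
    obtain ⟨e, rfl⟩ := IsLocalRing.residue_surjective z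
    refine ⟨n, RingHom.mem_range.mpr ⟨e, ?_⟩⟩
    rw [← hjl, hz, hjk']
  obtain ⟨y, rfl⟩ := Ideal.Quotient.mk_surjective x
  obtain ⟨z, rfl⟩ := ψ.surjective y
  induction z using TensorProduct.induction_on with
  | zero => exact ⟨0, by simp⟩
  | tmul e a' =>
    have h1 : ψ (e ⊗ₜ[A] a') = algebraMap E N e * ι a' := by
      have h2 : e ⊗ₜ[A] a' = (e ⊗ₜ[A] (1 : A')) * ((1 : E) ⊗ₜ[A] a') := by
        rw [Algebra.TensorProduct.tmul_mul_tmul, mul_one, one_mul]
      rw [h2, map_mul, hE1, hι]
    rw [h1, map_mul]
    exact pinsep_mul _ πE.range ⟨0, by rw [pow_zero, pow_one]; exact ⟨e, rfl⟩⟩ (hS a')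
  | add z w hz hw =>
    rw [map_add, map_add]
    exact pinsep_add _ πE.range hz hw

end Ring

section Main

theorem main (A S E : Type u) [CommRing A] [HenselianLocalRing A] [IsDomain A]
    (hA : EGA4.IsExcellent A)
    [IsLocalRing (integralClosure A (FractionRing A))]
    [IsLocalHom (algebraMap A (integralClosure A (FractionRing A)))]
    [CommRing S] [IsLocalRing S] [Algebra A S] [IsLocalHom (algebraMap A S)]
    [Hensel.IsStrictHenselization A S]
    [CommRing E] [IsLocalRing E] [Algebra A E] [IsLocalHom (algebraMap A E)]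
    (hE : EGA4loc.IsEssentiallyEtale A E) [Algebra E S] [IsScalarTower A E S] :
    (∀ Q ∈ minimalPrimes S, Q = Ideal.map (algebraMap E S) (Q.comap (algebraMap E S))) ↔
      Nat.card (separableClosure (ResidueField A)
          (ResidueField (integralClosure A (FractionRing A))) →ₐ[ResidueField A]
          ResidueField E) =
        Module.finrank (ResidueField A)
          (separableClosure (ResidueField A)
            (ResidueField (integralClosure A (FractionRing A)))) := by
  haveI : IsNoetherianRing A := hA.1
  obtain ⟨hfin, hfet⟩ := finite_of_isEssentiallyEtale A E hE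
  haveI := hfin
  haveI := hfet
  haveI : Algebra.FinitePresentation A E :=
    Algebra.FinitePresentation.of_finiteType.mp inferInstance
  haveI : Algebra.Etale A E := {}
  obtain ⟨hunr, hess, hflat, hnoeth⟩ :=
    Groth.Agent.Helper7.SemiNorm.of_isEssentiallyEtale A E hE
  haveI := hunr
  haveI := hess
  haveI := hflat
  haveI := hnoeth
  haveI : IsReduced E := Groth.Agent.Helper7.SemiNorm.isReduced_of_unramified A
  haveI : HenselianLocalRing E := Groth.Agent.Helper7.Hensel.henselianLocalRing_of_finite A E
  haveI : IsLocalHom (algebraMap E S) := isLocalHom_top A E S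
  haveI : Hensel.IsStrictHenselization E S := isStrictHenselization_tower A E S
  haveI := Groth.Agent.Helper8.HensCpl.isLocalHom_algebraMap_self E
  haveI : Hensel.IsHenselization E E := Groth.Agent.Helper8.HensCpl.isHenselization_self E
  refine (Groth.Agent.Helper8.SHExt.main E E S).symm.trans ?_
  haveI : Module.Finite A (integralClosure A (FractionRing A)) :=
    Groth.Agent.Helper8.Nag.finite_integralClosure_fractionRing A
      (Groth.Agent.Helper8.Nag.isNagata_of_isQuasiExcellent A ⟨hA.1, hA.2.2.1, hA.2.2.2⟩).2
  haveI : FiniteDimensional (ResidueField A)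
      (ResidueField (integralClosure A (FractionRing A))) := inferInstance
  obtain ⟨ψ⟩ := nonempty_equiv A E
  let pb := Field.powerBasisOfFiniteOfSeparable (ResidueField A)
    (separableClosure (ResidueField A) (ResidueField (integralClosure A (FractionRing A))))
  rw [card_algHom_eq_finrank_iff (ResidueField A) (ResidueField E) _ pb]
  constructor
  · intro H
    exact splits_of_hpt (ResidueField A) (ResidueField (integralClosure A (FractionRing A)))
      (ResidueField E) pb (fun Ω _ jl jk' hc y => hpt_of_hN A E ψ H Ω jl jk' hc y)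
  · intro hs M _ x
    exact hN_of_hpt A E ψ (fun Ω _ jl jk' hc y =>
      hpt_of_splits (ResidueField A) (ResidueField (integralClosure A (FractionRing A)))
        (ResidueField E) pb hs Ω jl jk' hc y) M x

end Main

end Groth.Agent.Helper7.EssEtSplit
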